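import Mathlib

set_option autoImplicit false

/-! The conjugacy classes of non-trivial unipotent elements of `SL₂`. -/

namespace Cfsg.Agent.SL2Unipotent

open Matrix

variable {F : Type*} [Field F]

/-- The unipotent element `1 + b · (v ⊗ v⊥)`. -/
def uv (b x y : F) : Matrix.SpecialLinearGroup (Fin 2) F :=
  ⟨!![1 - b * x * y, b * x * x; -(b * y * y), 1 + b * x * y], by
    simp [Matrix.det_fin_two]; ring⟩

theorem uv_conj (b x y : F) (A : Matrix.SpecialLinearGroup (Fin 2) F)
    (hx : (A : Matrix (Fin 2) (Fin 2) F) 0 0 = x) (hy : (A : Matrix (Fin 2) (Fin 2) F) 1 0 = y) :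
    A * uv b 1 0 = uv b x y * A := by
  have hd := A.2
  rw [Matrix.det_fin_two, hx, hy] at hd
  apply Subtype.ext
  rw [Matrix.SpecialLinearGroup.coe_mul, Matrix.SpecialLinearGroup.coe_mul]
  ext i j
  fin_cases i <;> fin_cases j <;> simp [uv, Matrix.mul_apply, Fin.sum_univ_two, hx, hy] <;>
    first
      | ring1
      | linear_combination (-b * x) * hd
      | linear_combination (b * x) * hd
      | linear_combination (-b * y) * hd
      | linear_combination (b * y) * hd

theorem carrier_eq (b : F) :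
    (ConjClasses.mk (uv b 1 0)).carrier =
      (fun v : F × F => uv b v.1 v.2) '' {v | v ≠ 0} := by
  ext g
  rw [ConjClasses.mem_carrier_iff_mk_eq, ConjClasses.mk_eq_mk_iff_isConj, Set.mem_image]
  constructor
  · intro h
    obtain ⟨A, hA⟩ := isConj_iff.mp h.symm
    refine ⟨((A : Matrix (Fin 2) (Fin 2) F) 0 0, (A : Matrix (Fin 2) (Fin 2) F) 1 0), ?_, ?_⟩
    · intro h0
      have hd := A.2
      rw [Matrix.det_fin_two] at hd
      simp only [Prod.mk_eq_zero] at h0
      rw [h0.1, h0.2] at hd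
      simp at hd
    · rw [← hA, uv_conj b _ _ A rfl rfl, mul_inv_cancel_right]
  · rintro ⟨⟨x, y⟩, hv, rfl⟩
    refine (isConj_iff.mpr ?_).symm
    obtain ⟨A, hAx, hAy⟩ : ∃ A : Matrix.SpecialLinearGroup (Fin 2) F,
        (A : Matrix (Fin 2) (Fin 2) F) 0 0 = x ∧ (A : Matrix (Fin 2) (Fin 2) F) 1 0 = y := by
      by_cases hx : x = 0
      · have hy : y ≠ 0 := fun h => hv (Prod.ext hx h)
        exact ⟨⟨!![x, -y⁻¹; y, 0], by simp [Matrix.det_fin_two, hy]⟩, rfl, rfl⟩
      · exact ⟨⟨!![x, 0; y, x⁻¹], by simp [Matrix.det_fin_two, hx]⟩, rfl, rfl⟩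
    exact ⟨A, by rw [uv_conj b x y A hAx hAy, mul_inv_cancel_right]⟩

theorem uv_inj {b : F} (hb : b ≠ 0) {v w : F × F} (h : uv b v.1 v.2 = uv b w.1 w.2) :
    w = v ∨ w = -v := by
  have h01 := congrArg (fun g : Matrix.SpecialLinearGroup (Fin 2) F => (g : Matrix (Fin 2) (Fin 2) F) 0 1) h
  have h10 := congrArg (fun g : Matrix.SpecialLinearGroup (Fin 2) F => (g : Matrix (Fin 2) (Fin 2) F) 1 0) h
  have h00 := congrArg (fun g : Matrix.SpecialLinearGroup (Fin 2) F => (g : Matrix (Fin 2) (Fin 2) F) 0 0) h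
  simp [uv] at h01 h10 h00
  obtain ⟨x, y⟩ := v
  obtain ⟨x', y'⟩ := w
  simp only at h01 h10 h00
  have e1 : x' * x' = x * x := mul_left_cancel₀ hb (by linear_combination -h01)
  have e2 : y' * y' = y * y := mul_left_cancel₀ hb (by linear_combination -h10)
  have e3 : x' * y' = x * y := mul_left_cancel₀ hb (by linear_combination -h00)
  rcases mul_self_eq_mul_self_iff.mp e1 with h1 | h1 <;>
    rcases mul_self_eq_mul_self_iff.mp e2 with h2 | h2 <;> subst h1 h2
  · exact Or.inl rfl
  · rcases eq_or_ne x' 0 with rfl | hx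
    · exact Or.inr (by simp)
    · have : -y = y := mul_left_cancel₀ hx (by linear_combination e3)
      exact Or.inl (by rw [this])
  · rcases eq_or_ne x 0 with rfl | hx
    · exact Or.inl (by simp)
    · have : -y' = y' := mul_left_cancel₀ hx (by linear_combination e3)
      exact Or.inr (by simp [this])
  · exact Or.inr rfl

/-- The class of `uv b 1 0` has `q² − 1` elements, up to the sign of the vector. -/
theorem card_carrier [Fintype F] {b : F} (hb : b ≠ 0) :
    ((2 : F) = 0 → Nat.card (ConjClasses.mk (uv b 1 0)).carrier = Fintype.card F ^ 2 - 1) ∧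
    ((2 : F) ≠ 0 → 2 * Nat.card (ConjClasses.mk (uv b 1 0)).carrier = Fintype.card F ^ 2 - 1) := by
  classical
  set s : Finset (F × F) := Finset.univ.erase 0 with hs
  set f : F × F → Matrix.SpecialLinearGroup (Fin 2) F := fun v => uv b v.1 v.2 with hf
  have hcard : s.card = Fintype.card F ^ 2 - 1 := by
    rw [hs, Finset.card_erase_of_mem (Finset.mem_univ _), Finset.card_univ, Fintype.card_prod, sq]
  have hset : (ConjClasses.mk (uv b 1 0)).carrier = ↑(s.image f) := by
    rw [carrier_eq, Finset.coe_image]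
    congr 1
    ext v
    simp [hs]
  have hn : Nat.card (ConjClasses.mk (uv b 1 0)).carrier = (s.image f).card := by
    rw [hset, Nat.card_coe_set_eq, Set.ncard_coe_finset]
  refine ⟨fun h2 => ?_, fun h2 => ?_⟩
  · rw [hn, Finset.card_image_of_injective, hcard]
    intro v w h
    rcases uv_inj hb h with rfl | rfl
    · rfl
    · exact Prod.ext (by simp; linear_combination v.1 * h2) (by simp; linear_combination v.2 * h2)
  · rw [hn, ← hcard, mul_comm, Finset.card_eq_sum_card_image f s, ← smul_eq_mul, ← Finset.sum_const]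
    refine Finset.sum_congr rfl fun g hg => ?_
    obtain ⟨v, hv, rfl⟩ := Finset.mem_image.mp hg
    have hv0 : v ≠ 0 := (Finset.mem_erase.mp hv).1
    have : s.filter (fun w => f w = f v) = {v, -v} := by
      ext w
      simp only [Finset.mem_filter, Finset.mem_insert, Finset.mem_singleton]
      constructor
      · exact fun h => uv_inj hb h.2.symm
      · rintro (rfl | rfl)
        · exact ⟨hv, rfl⟩
        · exact ⟨Finset.mem_erase.mpr ⟨neg_ne_zero.mpr hv0, Finset.mem_univ _⟩,
            Subtype.ext (by simp [hf, uv])⟩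
    rw [this, Finset.card_pair]
    intro h
    apply hv0
    have hf1 : v.1 = -v.1 := congrArg Prod.fst h
    have hf2 : v.2 = -v.2 := congrArg Prod.snd h
    have h1 : (2 : F) * v.1 = 0 := by linear_combination hf1
    have h2' : (2 : F) * v.2 = 0 := by linear_combination hf2
    exact Prod.ext ((mul_eq_zero.mp h1).resolve_left h2) ((mul_eq_zero.mp h2').resolve_left h2)

theorem isConj_uv_iff {b b' : F} (hb : b ≠ 0) (hb' : b' ≠ 0) :
    IsConj (uv b 1 0) (uv b' 1 0) ↔ IsSquare (b * b') := by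
  rw [isConj_comm, ← ConjClasses.mk_eq_mk_iff_isConj, ← ConjClasses.mem_carrier_iff_mk_eq, carrier_eq]
  constructor
  · rintro ⟨⟨x, y⟩, -, h⟩
    have h01 := congrArg (fun g : Matrix.SpecialLinearGroup (Fin 2) F => (g : Matrix (Fin 2) (Fin 2) F) 0 1) h
    simp [uv] at h01
    exact ⟨b * x, by rw [← h01]; ring⟩
  · rintro ⟨r, hr⟩
    have hr0 : r ≠ 0 := fun h => mul_ne_zero hb hb' (by rw [hr, h, zero_mul])
    refine ⟨(r / b, 0), fun h => div_ne_zero hr0 hb (congrArg Prod.fst h), Subtype.ext ?_⟩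
    have : b * (r / b) * (r / b) = b' := by
      field_simp
      linear_combination -hr
    simp [uv, this]

theorem orderOf_uv (p : ℕ) [Fact p.Prime] [CharP F p] {b : F} (hb : b ≠ 0) :
    orderOf (uv b 1 0) = p := by
  have hpow : ∀ k : ℕ, ((uv b 1 0 ^ k : Matrix.SpecialLinearGroup (Fin 2) F) : Matrix (Fin 2) (Fin 2) F)
      = !![1, (k : F) * b; 0, 1] := by
    intro k
    induction k with
    | zero => ext i j; fin_cases i <;> fin_cases j <;> simp
    | succ k ih =>
      rw [pow_succ, Matrix.SpecialLinearGroup.coe_mul, ih]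
      ext i j
      fin_cases i <;> fin_cases j <;> simp [uv, Matrix.mul_apply, Fin.sum_univ_two]
      ring
  refine orderOf_eq_prime (Subtype.ext ?_) ?_
  · rw [hpow p, CharP.cast_eq_zero F p]
    ext i j; fin_cases i <;> fin_cases j <;> simp
  · intro h
    have := congrArg (fun g : Matrix.SpecialLinearGroup (Fin 2) F => (g : Matrix (Fin 2) (Fin 2) F) 0 1) h
    simp [uv] at this
    exact hb this

/-- Every element of order `p` is conjugate to some `uv b 1 0`. -/
theorem exists_isConj (p : ℕ) [Fact p.Prime] [CharP F p] (g : Matrix.SpecialLinearGroup (Fin 2) F)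
    (hg : orderOf g = p) : ∃ b : F, b ≠ 0 ∧ IsConj (uv b 1 0) g := by
  set M : Matrix (Fin 2) (Fin 2) F := (g : Matrix (Fin 2) (Fin 2) F) with hM
  set N : Matrix (Fin 2) (Fin 2) F := M - 1 with hN
  have hNp : N ^ p = 0 := by
    rw [hN, sub_pow_char_of_commute p (Commute.one_right M), one_pow, hM,
      ← Matrix.SpecialLinearGroup.coe_pow, ← hg, pow_orderOf_eq_one]
    simp
  have hN2 : N ^ 2 = 0 := by
    have h1 : IsNilpotent (Matrix.toLin' N) := IsNilpotent.map ⟨p, hNp⟩ (Matrix.toLinAlgEquiv' (R := F))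
    have h2 := LinearMap.aeval_self_charpoly (Matrix.toLin' N)
    rw [h1.charpoly_eq_X_pow_finrank, map_pow, Polynomial.aeval_X, Module.finrank_fin_fun,
      ← Matrix.toLin'_pow] at h2
    exact Matrix.toLin'.map_eq_zero_iff.mp h2
  have hne : g ≠ 1 := by
    intro h; rw [h, orderOf_one] at hg; exact (Fact.out : p.Prime).ne_one hg.symm
  rw [pow_two] at hN2
  have e00 : N 0 0 * N 0 0 + N 0 1 * N 1 0 = 0 := by
    have := congrFun (congrFun hN2 0) 0; simpa [Matrix.mul_apply, Fin.sum_univ_two] using this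
  have e01 : N 0 0 * N 0 1 + N 0 1 * N 1 1 = 0 := by
    have := congrFun (congrFun hN2 0) 1; simpa [Matrix.mul_apply, Fin.sum_univ_two] using this
  have e10 : N 1 0 * N 0 0 + N 1 1 * N 1 0 = 0 := by
    have := congrFun (congrFun hN2 1) 0; simpa [Matrix.mul_apply, Fin.sum_univ_two] using this
  have e11 : N 1 0 * N 0 1 + N 1 1 * N 1 1 = 0 := by
    have := congrFun (congrFun hN2 1) 1; simpa [Matrix.mul_apply, Fin.sum_univ_two] using this
  have htr : N 1 1 = -N 0 0 := by
    by_contra hcon
    have hs : N 0 0 + N 1 1 ≠ 0 := fun h => hcon (by linear_combination h)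
    have hb : N 0 1 = 0 := (mul_eq_zero.mp (show N 0 1 * (N 0 0 + N 1 1) = 0 by linear_combination e01)).resolve_right hs
    have ha : N 0 0 = 0 := mul_self_eq_zero.mp (by rw [hb] at e00; simpa using e00)
    have hd : N 1 1 = 0 := mul_self_eq_zero.mp (by rw [hb] at e11; simpa using e11)
    exact hs (by rw [ha, hd, add_zero])
  have hMN : ∀ i j, M i j = N i j + (1 : Matrix (Fin 2) (Fin 2) F) i j := fun i j => by simp [hN]
  have hmem : ∀ b x y : F, b ≠ 0 → (x, y) ≠ 0 → uv b x y = g →
      ∃ c : F, c ≠ 0 ∧ IsConj (uv c 1 0) g := fun b x y hb hv h => by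
    refine ⟨b, hb, ?_⟩
    have hm : g ∈ (ConjClasses.mk (uv b 1 0)).carrier := by
      rw [carrier_eq]; exact ⟨(x, y), hv, h⟩
    exact (ConjClasses.mk_eq_mk_iff_isConj.mp (ConjClasses.mem_carrier_iff_mk_eq.mp hm)).symm
  by_cases hb : N 0 1 = 0
  · have ha : N 0 0 = 0 := mul_self_eq_zero.mp (by rw [hb] at e00; simpa using e00)
    have hc : N 1 0 ≠ 0 := fun hc => hne (Subtype.ext (by
      ext i j
      change M i j = (1 : Matrix (Fin 2) (Fin 2) F) i j
      fin_cases i <;> fin_cases j <;> simp [hMN, htr, ha, hb, hc]))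
    refine hmem (-N 1 0) 0 1 (neg_ne_zero.mpr hc) (by simp) (Subtype.ext ?_)
    ext i j
    change _ = M i j
    fin_cases i <;> fin_cases j <;> simp [uv, hMN, htr, ha, hb]
  · refine hmem (N 0 1) 1 (-N 0 0 / N 0 1) hb (by simp) (Subtype.ext ?_)
    ext i j
    change _ = M i j
    fin_cases i <;> fin_cases j <;> simp [uv, hMN, htr]
    · field_simp; ring
    · field_simp; linear_combination -e00
    · field_simp; ring

end Cfsg.Agent.SL2Unipotent
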